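import Cfsg.Agent.Lib.GTwoThree.Tables
import Mathlib.Algebra.Polynomial.AlgebraMap
import Mathlib.FieldTheory.Finite.Basic
import Mathlib.Algebra.Polynomial.Expand

/-!
The centraliser of an element with a cyclic vector inside the stabiliser of a product.
-/

set_option autoImplicit false

open Matrix

namespace CfsgLib.GTwoThree

local notation "F₃" => ZMod 3
local notation "M₇" => Matrix (Fin 7) (Fin 7) (ZMod 3)

/-- The coefficient at a position of the image of the cyclic vector under the square. -/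
def sqv (K : Matrix (Fin 7) (Fin 13) F₃) (c : Fin 7 → F₃) (k : Fin 7) : F₃ :=
  ∑ i : Fin 7, c i * ∑ j : Fin 7, c j * K k ⟨(i : ℕ) + j, by omega⟩

/-- A combination of powers. -/
def cmb (P : Fin 7 → M₇) (c : Fin 7 → F₃) : M₇ := Matrix.of fun i j => ∑ l, c l * P l i j

/-- Preservation of the product, entry by entry. -/
def good (P : Fin 7 → M₇) (c : Fin 7 → F₃) : Bool :=
  decide (∀ k i j : Fin 7, (∑ a, ∑ b, cmb P c a i * prodTab k a b * cmb P c b j) =
    ∑ m, cmb P c k m * prodTab m i j)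

/-- The test made on each candidate. -/
def passes (P : Fin 7 → M₇) (K : Matrix (Fin 7) (Fin 13) F₃) (c : Fin 7 → F₃) : Bool :=
  decide (c = Pi.single 0 1) ||
    !(decide (sqv K c 3 = 1) && decide (sqv K c 0 = 0) && decide (sqv K c 1 = 0) && decide (sqv K c 2 = 0) &&
      decide (sqv K c 4 = 0) && decide (sqv K c 5 = 0) && decide (sqv K c 6 = 0) && good P c)

/-- Data of a cyclic element. -/
structure CyclicData where
  A : M₇
  P : Fin 7 → M₇
  K : Matrix (Fin 7) (Fin 13) F₃
  L : M₇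
  P_zero : P 0 = 1
  P_succ : ∀ i : Fin 6, P i.succ = A * P i.castSucc
  K_zero : (fun k => K k 0) = Pi.single 3 1
  K_succ : ∀ n : Fin 12, (fun k => K k n.succ) = A *ᵥ fun k => K k n.castSucc
  K_inv : (Matrix.of fun k (j : Fin 7) => K k ⟨(j : ℕ), by omega⟩) * L = 1
  scan : ∀ a b c d e f g : F₃, passes P K ![a, b, c, d, e, f, g] = true

namespace CyclicData

variable (D : CyclicData)

theorem K_eq : ∀ (n : ℕ) (h : n < 13), (fun k => D.K k ⟨n, h⟩) = (D.A ^ n) *ᵥ Pi.single 3 1
  | 0, h => by rw [pow_zero, Matrix.one_mulVec]; exact D.K_zero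
  | n + 1, h => by
    have h1 := D.K_succ ⟨n, by omega⟩
    rw [pow_succ', ← Matrix.mulVec_mulVec, ← K_eq n (by omega)]
    exact h1

theorem P_eq : ∀ (n : ℕ) (h : n < 7), D.P ⟨n, h⟩ = D.A ^ n
  | 0, h => by rw [pow_zero]; exact D.P_zero
  | n + 1, h => by
    rw [pow_succ', ← P_eq n (by omega)]
    exact D.P_succ ⟨n, by omega⟩

/-- Elements commuting with the cyclic element are determined by the image of the cyclic vector. -/
theorem eq_of_commute {X Y : M₇} (hX : Commute X D.A) (hY : Commute Y D.A)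
    (h : X *ᵥ Pi.single 3 1 = Y *ᵥ Pi.single 3 1) : X = Y := by
  set K7 : M₇ := Matrix.of fun k (j : Fin 7) => D.K k ⟨(j : ℕ), by omega⟩
  have hK : X * K7 = Y * K7 := by
    ext k j
    have hj : ∀ Z : M₇, (Z * K7) k j = (Z *ᵥ ((D.A ^ (j : ℕ)) *ᵥ Pi.single 3 1)) k := fun Z => by
      rw [← D.K_eq (j : ℕ) (by omega)]
      rfl
    rw [hj, hj, Matrix.mulVec_mulVec, Matrix.mulVec_mulVec, (hX.pow_right _).eq, (hY.pow_right _).eq,
      ← Matrix.mulVec_mulVec, ← Matrix.mulVec_mulVec, h]
  calc X = X * (K7 * D.L) := by rw [D.K_inv, Matrix.mul_one]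
    _ = Y * (K7 * D.L) := by rw [← Matrix.mul_assoc, hK, Matrix.mul_assoc]
    _ = Y := by rw [D.K_inv, Matrix.mul_one]

/-- The coefficients of an element of the centraliser. -/
def coeffs (M : M₇) : Fin 7 → F₃ := D.L *ᵥ (M *ᵥ Pi.single 3 1)

theorem eq_sum {M : M₇} (hM : Commute M D.A) : M = ∑ i : Fin 7, D.coeffs M i • D.A ^ (i : ℕ) := by
  refine D.eq_of_commute hM
    (Commute.sum_left _ _ _ fun i _ => ((Commute.refl D.A).pow_left _).smul_left _) ?_
  rw [Matrix.sum_mulVec]
  calc M *ᵥ Pi.single 3 1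
      = (Matrix.of fun k (j : Fin 7) => D.K k ⟨(j : ℕ), by omega⟩) *ᵥ D.coeffs M := by
        rw [coeffs, Matrix.mulVec_mulVec, D.K_inv, Matrix.one_mulVec]
    _ = _ := by
      funext k
      rw [Finset.sum_apply]
      simp only [Matrix.mulVec, dotProduct, Matrix.of_apply]
      refine Finset.sum_congr rfl fun i _ => ?_
      have h : D.K k ⟨(i : ℕ), by omega⟩ = ((D.A ^ (i : ℕ)) *ᵥ Pi.single 3 1) k :=
        congrFun (D.K_eq (i : ℕ) (by omega)) k
      rw [h]
      simp only [Matrix.mulVec, dotProduct, Matrix.smul_apply, smul_eq_mul, Finset.sum_mul, Finset.mul_sum]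
      exact Finset.sum_congr rfl fun x _ => by ring

theorem pow_frob {M : M₇} (hM : Commute M D.A) {k : ℕ} (hA : D.A ^ (3 ^ k) = D.A) : M ^ (3 ^ k) = M := by
  set f : Polynomial F₃ := ∑ i : Fin 7, Polynomial.C (D.coeffs M i) * Polynomial.X ^ (i : ℕ)
  have hf : M = Polynomial.aeval D.A f := by
    conv_lhs => rw [D.eq_sum hM]
    simp [f, map_sum, Algebra.smul_def]
  have key : ∀ (B : M₇) (j : ℕ), Polynomial.aeval B f ^ (3 ^ j) = Polynomial.aeval (B ^ (3 ^ j)) f := by
    intro B j
    induction j with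
    | zero => simp
    | succ j ih =>
      rw [pow_succ, pow_mul, ih, ← map_pow, ← ZMod.expand_card f, Polynomial.expand_aeval, ← pow_mul]
  rw [hf, key, hA]

/-- An involution commuting with the cyclic element and preserving the product is trivial. -/
theorem involution_eq_one {M : M₇} (hM : Commute M D.A) (h2 : M * M = 1)
    (hp : ∀ k, Mᵀ * prodTab k * M = ∑ l, M k l • prodTab l) : M = 1 := by
  have hsum := D.eq_sum hM
  set c := D.coeffs M with hc
  have hcm : cmb D.P c = M := by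
    conv_rhs => rw [hsum]
    ext i j
    simp only [cmb, Matrix.of_apply, Matrix.sum_apply, Matrix.smul_apply, smul_eq_mul]
    exact Finset.sum_congr rfl fun l _ => by rw [D.P_eq (l : ℕ) l.2]
  have hsq : ∀ k, sqv D.K c k = (Pi.single 3 1 : Fin 7 → F₃) k := by
    intro k
    have h := congrArg (fun N : M₇ => (N *ᵥ Pi.single 3 1) k) h2
    rw [Matrix.one_mulVec] at h
    rw [← h]
    conv_rhs => rw [hsum]
    rw [Finset.sum_mul, Matrix.sum_mulVec, Finset.sum_apply, sqv]
    refine Finset.sum_congr rfl fun i _ => ?_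
    rw [Finset.mul_sum, Matrix.mul_sum, Matrix.sum_mulVec, Finset.sum_apply]
    refine Finset.sum_congr rfl fun j _ => ?_
    have h : D.K k ⟨(i : ℕ) + j, by omega⟩ = ((D.A ^ ((i : ℕ) + j)) *ᵥ Pi.single 3 1) k :=
      congrFun (D.K_eq ((i : ℕ) + j) (by omega)) k
    rw [Matrix.smul_mul, Matrix.mul_smul, ← pow_add, smul_smul, Matrix.smul_mulVec, Pi.smul_apply,
      smul_eq_mul, ← h, mul_assoc]
  have hgood : good D.P c = true := by
    refine decide_eq_true fun k i j => ?_
    rw [hcm]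
    have h := congrFun (congrFun (hp k) i) j
    simp only [Matrix.mul_apply, Matrix.transpose_apply, Finset.sum_mul, Matrix.sum_apply,
      Matrix.smul_apply, smul_eq_mul] at h
    rw [← h]
    exact Finset.sum_comm
  have h := D.scan (c 0) (c 1) (c 2) (c 3) (c 4) (c 5) (c 6)
  have hv : ![c 0, c 1, c 2, c 3, c 4, c 5, c 6] = c := by
    funext i
    fin_cases i <;> rfl
  rw [hv, passes, hgood] at h
  simp [hsq] at h
  rw [← hcm, h]
  ext i j
  simp [cmb, Pi.single_apply, D.P_zero]

theorem pow_eq_one {n : ℕ} (h : (D.A ^ n) *ᵥ Pi.single 3 1 = Pi.single 3 1) : D.A ^ n = 1 :=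
  D.eq_of_commute ((Commute.refl D.A).pow_left n) (Commute.one_left _) (by rw [h, Matrix.one_mulVec])

end CyclicData

end CfsgLib.GTwoThree
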