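import Cfsg.Agent.Lib.GTwoThree.Centralizer

/-!
The candidates in the centraliser of the element of order 13.
-/

set_option autoImplicit false

namespace CfsgLib.GTwoThree

theorem scan13 : ∀ a b c d e f g : ZMod 3, passes pow13 kry13 ![a, b, c, d, e, f, g] = true := by
  decide +kernel

/-- The data of the element of order 13. -/
def data13 : CyclicData where
  A := gen13
  P := pow13
  K := kry13
  L := kryInv13
  P_zero := by decide +kernel
  P_succ := by decide +kernel
  K_zero := by decide +kernel
  K_succ := by decide +kernel
  K_inv := by decide +kernel
  scan := scan13

end CfsgLib.GTwoThree
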