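import Cfsg.Agent.Lib.GTwoThree.Orders
import Cfsg.Agent.Lib.GTwoThree.Check13
import Cfsg.Agent.Lib.GTwoThree.Check7

/-!
The prime graph of the Chevalley group of type `G₂` over three elements.
-/

set_option autoImplicit false

open Matrix Cfsg.Lie

namespace CfsgLib.GTwoThree

local notation "F₃" => ZMod 3

theorem pow13_eq_one : data13.A ^ 13 = 1 :=
  data13.pow_A_eq_one (n := 12) (by norm_num) (by decide +kernel)

theorem pow7_eq_one : data7.A ^ 7 = 1 :=
  data7.pow_A_eq_one (n := 6) (by norm_num) (by decide +kernel)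

theorem exists_gen13 : ∃ g : ↥(chevG2.group F₃), repMat g = data13.A ∧ orderOf g = 13 := by
  obtain ⟨g, hg⟩ := exists_word [0, 4, 9]
  have h : ([0, 4, 9].map rootTab).prod = data13.A := by decide +kernel
  rw [h] at hg
  have : Fact (Nat.Prime 13) := ⟨by norm_num⟩
  exact ⟨g, hg, data13.orderOf_eq pow13_eq_one (by decide +kernel) hg⟩

theorem exists_gen7 : ∃ g : ↥(chevG2.group F₃), repMat g = data7.A ∧ orderOf g = 7 := by
  obtain ⟨g, hg⟩ := exists_word [0, 1, 3, 11]
  have h : ([0, 1, 3, 11].map rootTab).prod = data7.A := by decide +kernel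
  rw [h] at hg
  have : Fact (Nat.Prime 7) := ⟨by norm_num⟩
  exact ⟨g, hg, data7.orderOf_eq pow7_eq_one (by decide +kernel) hg⟩

theorem exists_orderOf_six : ∃ g : ↥(chevG2.group F₃), orderOf g = 6 := by
  obtain ⟨g, hg⟩ := exists_word [0, 0, 11]
  have h : ([0, 0, 11].map rootTab).prod = gen6 0 := by decide +kernel
  rw [h] at hg
  have h01 : gen6 0 * gen6 0 = gen6 1 := by decide +kernel
  have h12 : gen6 1 * gen6 0 = gen6 2 := by decide +kernel
  have h22 : gen6 2 * gen6 2 = 1 := by decide +kernel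
  have n1 : gen6 1 ≠ 1 := by decide +kernel
  have n2 : gen6 2 ≠ 1 := by decide +kernel
  have e2 : repMat (g ^ 2) = gen6 1 := by rw [map_pow, hg, pow_two, h01]
  have e3 : repMat (g ^ 3) = gen6 2 := by rw [pow_succ, map_mul, e2, hg, h12]
  have h6 : g ^ 6 = 1 := repMat_injective (by rw [show 6 = 3 + 3 from rfl, pow_add, map_mul, e3, h22, map_one])
  have g2 : g ^ 2 ≠ 1 := fun h => n1 (by rw [← e2, h, map_one])
  have g3 : g ^ 3 ≠ 1 := fun h => n2 (by rw [← e3, h, map_one])
  refine ⟨g, ?_⟩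
  have hd : orderOf g ∣ 6 := orderOf_dvd_of_pow_eq_one h6
  have hm : orderOf g ∈ Nat.divisors 6 := Nat.mem_divisors.mpr ⟨hd, by norm_num⟩
  rw [show Nat.divisors 6 = {1, 2, 3, 6} by decide] at hm
  simp only [Finset.mem_insert, Finset.mem_singleton] at hm
  have hp := pow_orderOf_eq_one g
  rcases hm with h1 | h1 | h1 | h1
  · rw [h1, pow_one] at hp
    exact absurd (by rw [hp, one_pow]) g2
  · exact absurd (by rwa [h1] at hp) g2
  · exact absurd (by rwa [h1] at hp) g3
  · exact h1

theorem factorization_card :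
    (Nat.card ↥(chevG2.group F₃)).factorization 13 = 1 ∧
      (Nat.card ↥(chevG2.group F₃)).factorization 7 = 1 := by
  rw [card_group]
  constructor
  · rw [Nat.factorization_def _ (by norm_num : Nat.Prime 13)]
    have : Fact (Nat.Prime 13) := ⟨by norm_num⟩
    exact (padicValNat.mul (by norm_num) (by norm_num)).trans
      (by rw [padicValNat.eq_zero_of_not_dvd (by norm_num), padicValNat_self])
  · rw [Nat.factorization_def _ (by norm_num : Nat.Prime 7),
      show (2 ^ 6 * 3 ^ 6 * 7 * 13 : ℕ) = 2 ^ 6 * 3 ^ 6 * 13 * 7 by norm_num]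
    have : Fact (Nat.Prime 7) := ⟨by norm_num⟩
    exact (padicValNat.mul (by norm_num) (by norm_num)).trans
      (by rw [padicValNat.eq_zero_of_not_dvd (by norm_num), padicValNat_self])

theorem orderOf_ne_thirteen_mul {s : ℕ} (hs : s = 2 ∨ s = 3 ∨ s = 7) (x : ↥(chevG2.group F₃)) :
    orderOf x ≠ 13 * s := by
  intro hx
  have : Fact (Nat.Prime 13) := ⟨by norm_num⟩
  obtain ⟨g, hg, hgo⟩ := exists_gen13
  obtain ⟨b, hb, hc⟩ := exists_commute_of_orderOf hgo factorization_card.1
    (by rcases hs with rfl | rfl | rfl <;> norm_num) hx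
  have hA : data13.A ^ (3 ^ 3) = data13.A := by
    rw [show 3 ^ 3 = 13 * 2 + 1 by norm_num, pow_succ, pow_mul, pow13_eq_one, one_pow, one_mul]
  rcases hs with rfl | hs
  · exact data13.not_commute_two hg hb hc
  · have h := data13.dvd_of_commute hA hg hb hc
    rcases hs with rfl | rfl <;> norm_num at h

theorem orderOf_ne_seven_mul {s : ℕ} (hs : s = 2 ∨ s = 3) (x : ↥(chevG2.group F₃)) :
    orderOf x ≠ 7 * s := by
  intro hx
  have : Fact (Nat.Prime 7) := ⟨by norm_num⟩
  obtain ⟨g, hg, hgo⟩ := exists_gen7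
  obtain ⟨b, hb, hc⟩ := exists_commute_of_orderOf hgo factorization_card.2
    (by rcases hs with rfl | rfl <;> norm_num) hx
  have hA : data7.A ^ (3 ^ 6) = data7.A := by
    rw [show 3 ^ 6 = 7 * 104 + 1 by norm_num, pow_succ, pow_mul, pow7_eq_one, one_pow, one_mul]
  rcases hs with rfl | rfl
  · exact data7.not_commute_two hg hb hc
  · have h := data7.dvd_of_commute hA hg hb hc
    norm_num at h

theorem prime_dvd_iff {r : ℕ} (hr : r.Prime) :
    r ∣ Nat.card ↥(chevG2.group F₃) ↔ r = 2 ∨ r = 3 ∨ r = 7 ∨ r = 13 := by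
  have h (p : ℕ) (hp : p.Prime) : r ∣ p ↔ r = p := Nat.prime_dvd_prime_iff_eq hr hp
  rw [card_group, hr.dvd_mul, hr.dvd_mul, hr.dvd_mul, h 7 (by norm_num), h 13 (by norm_num)]
  constructor
  · rintro (((h1 | h1) | h1) | h1)
    · exact .inl ((h 2 Nat.prime_two).mp (hr.dvd_of_dvd_pow h1))
    · exact .inr (.inl ((h 3 Nat.prime_three).mp (hr.dvd_of_dvd_pow h1)))
    · exact .inr (.inr (.inl h1))
    · exact .inr (.inr (.inr h1))
  · rintro (rfl | rfl | rfl | rfl) <;> norm_num

theorem exists_orderOf_mul_iff {r s : ℕ} (hr : r.Prime) (hs : s.Prime) (hne : r ≠ s) :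
    (∃ x : ↥(chevG2.group F₃), orderOf x = r * s) ↔ r * s = 6 := by
  constructor
  · rintro ⟨x, hx⟩
    have hdvd := orderOf_dvd_natCard (x := x)
    rw [hx] at hdvd
    rcases (prime_dvd_iff hr).mp ((dvd_mul_right r s).trans hdvd) with rfl | rfl | rfl | rfl <;>
      rcases (prime_dvd_iff hs).mp ((dvd_mul_left s _).trans hdvd) with rfl | rfl | rfl | rfl
    all_goals first
      | exact absurd rfl hne
      | rfl
      | exact absurd hx (orderOf_ne_thirteen_mul (by norm_num) x)
      | exact absurd (hx.trans (Nat.mul_comm _ _)) (orderOf_ne_thirteen_mul (by norm_num) x)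
      | exact absurd hx (orderOf_ne_seven_mul (by norm_num) x)
      | exact absurd (hx.trans (Nat.mul_comm _ _)) (orderOf_ne_seven_mul (by norm_num) x)
  · intro h
    rw [h]
    exact exists_orderOf_six

end CfsgLib.GTwoThree
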