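import Cfsg.Agent.Lib.GTwoThree.Basic
import Cfsg.Agent.Lib.GTwoThree.Centralizer
import Mathlib.GroupTheory.Sylow

/-!
Element orders in the Chevalley group of type `G₂` over three elements, given a cyclic element.
-/

set_option autoImplicit false

open Matrix Cfsg.Lie
open scoped Pointwise

namespace CfsgLib.GTwoThree

local notation "F₃" => ZMod 3
local notation "M₇" => Matrix (Fin 7) (Fin 7) (ZMod 3)
set_option quotPrecheck false in
local notation "G₃" => ↥(chevG2.group (ZMod 3))

/-- An element of order `r * s`, with `r` a prime dividing the order once, gives an element of order `s`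
commuting with any given element of order `r`. -/
theorem exists_commute_of_orderOf {G : Type*} [Group G] [Finite G] {r s : ℕ} [Fact r.Prime] {g x : G}
    (hg : orderOf g = r) (hv : (Nat.card G).factorization r = 1) (hs : s ≠ 0) (hx : orderOf x = r * s) :
    ∃ b : G, orderOf b = s ∧ Commute b g := by
  have hr0 : r ≠ 0 := (Fact.out : r.Prime).ne_zero
  have ha : orderOf (x ^ s) = r := by
    rw [orderOf_pow_of_dvd hs (hx ▸ dvd_mul_left s r), hx, Nat.mul_div_cancel _ (Nat.pos_of_ne_zero hs)]
  have hb : orderOf (x ^ r) = s := by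
    rw [orderOf_pow_of_dvd hr0 (hx ▸ dvd_mul_right r s), hx,
      Nat.mul_div_cancel_left _ (Nat.pos_of_ne_zero hr0)]
  let P : Sylow r G := Sylow.ofCard (Subgroup.zpowers (x ^ s)) (by rw [Nat.card_zpowers, ha, hv, pow_one])
  let Q : Sylow r G := Sylow.ofCard (Subgroup.zpowers g) (by rw [Nat.card_zpowers, hg, hv, pow_one])
  obtain ⟨c, hc⟩ := MulAction.exists_smul_eq G P Q
  have hmem : g ∈ ((c • P : Sylow r G) : Subgroup G) := by
    rw [hc]
    exact Subgroup.mem_zpowers g
  rw [Sylow.coe_subgroup_smul] at hmem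
  obtain ⟨y, hy, hyg⟩ := (Subgroup.mem_smul_pointwise_iff_exists g (MulAut.conj c) _).mp hmem
  obtain ⟨i, rfl⟩ := Subgroup.mem_zpowers_iff.mp hy
  refine ⟨MulAut.conj c (x ^ r), ?_, ?_⟩
  · rw [MulEquiv.orderOf_eq, hb]
  · rw [← hyg]
    exact ((Commute.pow_pow_self x r s).zpow_right i).map (MulAut.conj c).toMonoidHom

/-- The representation by matrices. -/
noncomputable def repMat : G₃ →* M₇ := (Units.coeHom M₇).comp rep

theorem repMat_injective : Function.Injective repMat := fun _ _ h => rep_injective (Units.ext h)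

theorem repMat_pres (g : G₃) : Pres (repMat g) := rep_pres g

theorem exists_word (l : List (Fin 12)) : ∃ g : G₃, repMat g = (l.map rootTab).prod := by
  induction l with
  | nil => exact ⟨1, by simp⟩
  | cons r l ih =>
    obtain ⟨a, ha⟩ := exists_root r
    obtain ⟨b, hb⟩ := ih
    exact ⟨a * b, by rw [map_mul, hb, List.map_cons, List.prod_cons]; exact congrArg (· * _) ha⟩

namespace CyclicData

variable (D : CyclicData) {g b : G₃}

theorem pow_A_eq_one {n : ℕ} (hn : n < 13)
    (h : D.A *ᵥ (fun k => D.K k ⟨n, hn⟩) = Pi.single 3 1) : D.A ^ (n + 1) = 1 := by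
  refine D.pow_eq_one ?_
  rw [pow_succ', ← Matrix.mulVec_mulVec, ← D.K_eq n hn, h]

theorem orderOf_eq {p : ℕ} [Fact p.Prime] (hA : D.A ^ p = 1) (h1 : D.A ≠ 1) (hg : repMat g = D.A) :
    orderOf g = p := by
  refine orderOf_eq_prime (repMat_injective ?_) fun h => h1 ?_
  · rw [map_pow, hg, hA, map_one]
  · rw [← hg, h, map_one]

theorem not_commute_two (hg : repMat g = D.A) (hb : orderOf b = 2) (hc : Commute b g) : False := by
  have h2 : repMat b * repMat b = 1 := by
    rw [← map_mul, ← pow_two, ← hb, pow_orderOf_eq_one, map_one]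
  have h := D.involution_eq_one (hg ▸ hc.map repMat) h2 (repMat_pres b)
  rw [← map_one repMat] at h
  rw [repMat_injective h, orderOf_one] at hb
  omega

theorem dvd_of_commute {k s : ℕ} (hA : D.A ^ (3 ^ k) = D.A) (hg : repMat g = D.A) (hb : orderOf b = s)
    (hc : Commute b g) : s ∣ 3 ^ k - 1 := by
  have h : b ^ (3 ^ k) = b := repMat_injective (by rw [map_pow]; exact D.pow_frob (hg ▸ hc.map repMat) hA)
  rw [← hb]
  refine orderOf_dvd_of_pow_eq_one (mul_right_cancel (b := b) ?_)
  rw [one_mul, ← pow_succ, Nat.sub_add_cancel (Nat.one_le_pow _ _ (by norm_num))]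
  exact h

end CyclicData

end CfsgLib.GTwoThree
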