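import Cfsg.Agent.Lib.Linear.Card
import Mathlib.Algebra.Field.ZMod
import Mathlib.GroupTheory.OrderOfElement
import Mathlib.LinearAlgebra.Matrix.Charpoly.Coeff

/-!
The prime graph of `PSL₂(13)`.
-/

set_option autoImplicit false

open Matrix

namespace CfsgLib.GTwoThree

local instance fact13 : Fact (Nat.Prime 13) := ⟨by norm_num⟩

/-- The coefficient in the powers of a matrix of determinant one and trace `t`. -/
def chebU {R : Type*} [CommRing R] (t : R) : ℕ → R
  | 0 => 0
  | 1 => 1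
  | n + 2 => t * chebU t (n + 1) - chebU t n

theorem chebU_map {R S : Type*} [CommRing R] [CommRing S] (f : R →+* S) (t : R) :
    ∀ n, chebU (f t) n = f (chebU t n)
  | 0 => by simp [chebU]
  | 1 => by simp [chebU]
  | n + 2 => by simp [chebU, chebU_map f t n, chebU_map f t (n + 1)]

theorem chebU_zero_cases : ∀ t : ZMod 13, chebU t 6 = 0 ∨ chebU t 7 = 0 ∨ chebU t 13 = 0 := by
  decide +kernel

section

variable {E : Type*} [Field E]

theorem sq_eq_of_det_one (M : Matrix (Fin 2) (Fin 2) E) (h : M.det = 1) :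
    M * M = M.trace • M - 1 := by
  rw [Matrix.det_fin_two] at h
  ext i j
  fin_cases i <;> fin_cases j <;>
    simp [Matrix.mul_apply, Fin.sum_univ_two, Matrix.trace_fin_two] <;>
    first | linear_combination h | linear_combination -h | ring

theorem pow_succ_eq (M : Matrix (Fin 2) (Fin 2) E) (h : M.det = 1) :
    ∀ n : ℕ, M ^ (n + 1) = chebU M.trace (n + 1) • M - chebU M.trace n • (1 : Matrix (Fin 2) (Fin 2) E)
  | 0 => by simp [chebU]
  | n + 1 => by
    rw [pow_succ, pow_succ_eq M h n, Matrix.sub_mul, Matrix.smul_mul, Matrix.smul_mul, Matrix.one_mul,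
      sq_eq_of_det_one M h]
    simp only [chebU]
    module

theorem pow_mem_center (x : SpecialLinearGroup (Fin 2) E) {n : ℕ}
    (h : chebU (x : Matrix (Fin 2) (Fin 2) E).trace (n + 1) = 0) :
    x ^ (n + 1) ∈ Subgroup.center (SpecialLinearGroup (Fin 2) E) := by
  rw [Subgroup.mem_center_iff]
  intro g
  have hc : (g : Matrix (Fin 2) (Fin 2) E) * (x : Matrix (Fin 2) (Fin 2) E) ^ (n + 1) =
      (x : Matrix (Fin 2) (Fin 2) E) ^ (n + 1) * (g : Matrix (Fin 2) (Fin 2) E) := by
    rw [pow_succ_eq _ x.2 n, h, zero_smul, zero_sub, Matrix.mul_neg, Matrix.neg_mul, Matrix.mul_smul,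
      Matrix.smul_mul, Matrix.mul_one, Matrix.one_mul]
  refine Matrix.SpecialLinearGroup.ext _ _ fun i j => ?_
  change ((g : Matrix (Fin 2) (Fin 2) E) *
      ((x ^ (n + 1) : SpecialLinearGroup (Fin 2) E) : Matrix (Fin 2) (Fin 2) E)) i j =
    (((x ^ (n + 1) : SpecialLinearGroup (Fin 2) E) : Matrix (Fin 2) (Fin 2) E) *
      (g : Matrix (Fin 2) (Fin 2) E)) i j
  rw [show ((x ^ (n + 1) : SpecialLinearGroup (Fin 2) E) : Matrix (Fin 2) (Fin 2) E) =
    (x : Matrix (Fin 2) (Fin 2) E) ^ (n + 1) from Matrix.SpecialLinearGroup.coe_pow x (n + 1)]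
  exact congrFun (congrFun hc i) j

variable [Fintype E]

theorem orderOf_dvd_psl (hE : Fintype.card E = 13) (y : ProjectiveSpecialLinearGroup (Fin 2) E) :
    orderOf y ∣ 6 ∨ orderOf y ∣ 7 ∨ orderOf y ∣ 13 := by
  obtain ⟨x, rfl⟩ := QuotientGroup.mk_surjective y
  let e : ZMod 13 ≃+* E := ZMod.ringEquivOfPrime E (by norm_num) hE
  have key : ∀ n : ℕ, chebU (x : Matrix (Fin 2) (Fin 2) E).trace (n + 1) = 0 →
      orderOf (QuotientGroup.mk x : ProjectiveSpecialLinearGroup (Fin 2) E) ∣ n + 1 := fun n hn => by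
    refine orderOf_dvd_of_pow_eq_one ?_
    rw [← QuotientGroup.mk_pow, QuotientGroup.eq_one_iff]
    exact pow_mem_center x hn
  have hm : ∀ n, chebU (x : Matrix (Fin 2) (Fin 2) E).trace n =
      e (chebU (e.symm (x : Matrix (Fin 2) (Fin 2) E).trace) n) := fun n => by
    conv_lhs => rw [← e.apply_symm_apply (x : Matrix (Fin 2) (Fin 2) E).trace]
    exact chebU_map e.toRingHom _ n
  rcases chebU_zero_cases (e.symm (x : Matrix (Fin 2) (Fin 2) E).trace) with h | h | h
  · exact .inl (key 5 (by rw [hm, h, map_zero]))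
  · exact .inr (.inl (key 6 (by rw [hm, h, map_zero])))
  · exact .inr (.inr (key 12 (by rw [hm, h, map_zero])))

/-- A preimage of an element of order six. -/
def six13 : SpecialLinearGroup (Fin 2) (ZMod 13) := ⟨!![2, 0; 0, 7], by decide⟩

/-- A unipotent element. -/
def uni13 : SpecialLinearGroup (Fin 2) (ZMod 13) := ⟨!![1, 1; 0, 1], by decide⟩

theorem exists_orderOf_six_psl (hE : Fintype.card E = 13) :
    ∃ y : ProjectiveSpecialLinearGroup (Fin 2) E, orderOf y = 6 := by
  let e : ZMod 13 ≃+* E := ZMod.ringEquivOfPrime E (by norm_num) hE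
  let f : SpecialLinearGroup (Fin 2) (ZMod 13) →* SpecialLinearGroup (Fin 2) E :=
    SpecialLinearGroup.map e.toRingHom
  have hf : Function.Injective f := fun a b h => by
    ext i j
    have h' := congrArg (fun X : SpecialLinearGroup (Fin 2) E => (X : Matrix (Fin 2) (Fin 2) E) i j) h
    exact e.injective h'
  set y : ProjectiveSpecialLinearGroup (Fin 2) E := QuotientGroup.mk (f six13)
  have hne : ∀ k : ℕ, six13 ^ k * uni13 ≠ uni13 * six13 ^ k → y ^ k ≠ 1 := fun k hk h => by
    rw [← QuotientGroup.mk_pow, QuotientGroup.eq_one_iff, ← map_pow, Subgroup.mem_center_iff] at h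
    refine hk (hf ?_)
    rw [map_mul, map_mul]
    exact (h (f uni13)).symm
  have h2 := hne 2 (by decide +kernel)
  have h3 := hne 3 (by decide +kernel)
  have h6 : orderOf y ∣ 6 := by
    refine orderOf_dvd_of_pow_eq_one ?_
    rw [← QuotientGroup.mk_pow, QuotientGroup.eq_one_iff]
    refine pow_mem_center (f six13) (n := 5) ?_
    have ht : (f six13 : Matrix (Fin 2) (Fin 2) E).trace = e 9 := by
      rw [Matrix.trace_fin_two]
      show e 2 + e 7 = e 9
      rw [← map_add]
      congr 1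
    rw [ht]
    have h0 : chebU (9 : ZMod 13) 6 = 0 := by decide +kernel
    rw [show (e 9 : E) = e.toRingHom 9 from rfl, chebU_map e.toRingHom, h0, map_zero]
  refine ⟨y, ?_⟩
  have hm : orderOf y ∈ Nat.divisors 6 := Nat.mem_divisors.mpr ⟨h6, by norm_num⟩
  rw [show Nat.divisors 6 = {1, 2, 3, 6} by decide] at hm
  simp only [Finset.mem_insert, Finset.mem_singleton] at hm
  have hp := pow_orderOf_eq_one y
  rcases hm with h1 | h1 | h1 | h1
  · rw [h1, pow_one] at hp
    exact absurd (by rw [hp, one_pow]) h2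
  · exact absurd (by rwa [h1] at hp) h2
  · exact absurd (by rwa [h1] at hp) h3
  · exact h1

theorem card_psl_thirteen (hE : Fintype.card E = 13) :
    Nat.card (ProjectiveSpecialLinearGroup (Fin 2) E) = 2 ^ 2 * 3 * 7 * 13 := by
  classical
  have h := CfsgLib.Linear.card_PSL_mul (n := Fin 2) (F := E)
  rw [CfsgLib.Linear.card_SL_two, hE, Fintype.card_fin, show Nat.gcd 2 (13 - 1) = 2 by decide] at h
  omega

theorem prime_dvd_psl_iff (hE : Fintype.card E = 13) {r : ℕ} (hr : r.Prime) :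
    r ∣ Nat.card (ProjectiveSpecialLinearGroup (Fin 2) E) ↔ r = 2 ∨ r = 3 ∨ r = 7 ∨ r = 13 := by
  have h (p : ℕ) (hp : p.Prime) : r ∣ p ↔ r = p := Nat.prime_dvd_prime_iff_eq hr hp
  rw [card_psl_thirteen hE, hr.dvd_mul, hr.dvd_mul, hr.dvd_mul, h 3 Nat.prime_three, h 7 (by norm_num),
    h 13 (by norm_num)]
  constructor
  · rintro (((h1 | h1) | h1) | h1)
    · exact .inl ((h 2 Nat.prime_two).mp (hr.dvd_of_dvd_pow h1))
    · exact .inr (.inl h1)
    · exact .inr (.inr (.inl h1))
    · exact .inr (.inr (.inr h1))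
  · rintro (rfl | rfl | rfl | rfl) <;> norm_num

theorem exists_orderOf_mul_psl_iff (hE : Fintype.card E = 13) {r s : ℕ} (hr : r.Prime) (hs : s.Prime) :
    (∃ y : ProjectiveSpecialLinearGroup (Fin 2) E, orderOf y = r * s) ↔ r * s = 6 := by
  refine ⟨?_, fun h => h ▸ exists_orderOf_six_psl hE⟩
  rintro ⟨y, hy⟩
  have hnp : ¬ (r * s).Prime := Nat.not_prime_mul hr.ne_one hs.ne_one
  have h2 : 2 * 2 ≤ r * s := Nat.mul_le_mul hr.two_le hs.two_le
  rcases orderOf_dvd_psl hE y with h | h | h <;> rw [hy] at h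
  · have hle := Nat.le_of_dvd (by norm_num) h
    have h5 : ¬ 5 ∣ 6 := by norm_num
    have h4 : ¬ 4 ∣ 6 := by norm_num
    generalize r * s = m at h hle h2 hnp
    interval_cases m <;> first | rfl | exact absurd h h4 | exact absurd h h5
  · rcases (Nat.dvd_prime (by norm_num)).mp h with h | h
    · omega
    · exact absurd (h ▸ (by norm_num : Nat.Prime 7)) hnp
  · rcases (Nat.dvd_prime (by norm_num)).mp h with h | h
    · omega
    · exact absurd (h ▸ (by norm_num : Nat.Prime 13)) hnp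

end

end CfsgLib.GTwoThree
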